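import Groth.Agent.Watanabe.Socle

/-!
The grading of the invariants and the conclusion of Watanabe's theorem.
-/

set_option autoImplicit false
set_option linter.unusedSectionVars false
set_option linter.style.haveILetI false
universe u

open MvPolynomial

noncomputable section

namespace Groth.Agent.Watanabe

variable {k : Type u} [Field k] {n : ℕ} {G : Type u} [Group G]
  [MulSemiringAction G (MvPolynomial (Fin n) k)] {M : G → Matrix (Fin n) (Fin n) k}

lemma isHomogeneous_of_stdGr {p : MvPolynomial (Fin n) k} {d : ℕ} (hp : p ∈ GrSyz.stdGr k (Fin n) (d : ℤ)) :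
    p.IsHomogeneous d := by
  intro e he
  have h := (GrSyz.mem_stdGr_iff k (Fin n) _ p).1 hp he
  rw [Finsupp.weight_apply, Finsupp.sum_fintype _ _ (by simp)] at h ⊢
  have h' : ((∑ i, e i : ℕ) : ℤ) = (d : ℤ) := by rw [← h]; push_cast; simp
  have h'' := Int.ofNat_inj.1 h'
  rw [← h'']
  simp

lemma smul_mem_stdGr (hM : IsLinear M) (g : G) {d : ℤ} {p : MvPolynomial (Fin n) k}
    (hp : p ∈ GrSyz.stdGr k (Fin n) d) : g • p ∈ GrSyz.stdGr k (Fin n) d := by
  rcases lt_or_ge d 0 with hd | hd
  · rw [GrSyzMin.eq_zero_of_deg_neg hd hp, smul_zero]; exact zero_mem _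
  · obtain ⟨d, rfl⟩ := Int.eq_ofNat_of_zero_le hd
    exact stdGr_of_isHomogeneous (isHomogeneous_smul hM g (isHomogeneous_of_stdGr hp))

lemma decompose_smul (hM : IsLinear M) (g : G) (p : MvPolynomial (Fin n) k) (d : ℤ) :
    (DirectSum.decompose (GrSyz.stdGr k (Fin n)) (g • p) d : MvPolynomial (Fin n) k) =
      g • (DirectSum.decompose (GrSyz.stdGr k (Fin n)) p d : MvPolynomial (Fin n) k) := by
  induction p using DirectSum.Decomposition.inductionOn (GrSyz.stdGr k (Fin n)) with
  | zero => simp
  | @homogeneous j q =>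
    by_cases h : j = d
    · subst h
      rw [DirectSum.decompose_of_mem_same _ (smul_mem_stdGr hM g q.2), DirectSum.decompose_of_mem_same _ q.2]
    · rw [DirectSum.decompose_of_mem_ne _ (smul_mem_stdGr hM g q.2) h, DirectSum.decompose_of_mem_ne _ q.2 h,
        smul_zero]
  | add a b ha hb =>
    rw [smul_add]
    simp only [DirectSum.decompose_add, DirectSum.add_apply, Submodule.coe_add, ha, hb, smul_add]

variable (A : Type u) [CommRing A] [Algebra A (MvPolynomial (Fin n) k)]

/-- The pieces of the invariants. -/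
def invGr (d : ℤ) : AddSubgroup A :=
  (GrSyz.stdGr k (Fin n) d).toAddSubgroup.comap (algebraMap A (MvPolynomial (Fin n) k)).toAddMonoidHom

lemma mem_invGr {d : ℤ} {a : A} :
    a ∈ invGr (k := k) (n := n) A d ↔ algebraMap A (MvPolynomial (Fin n) k) a ∈ GrSyz.stdGr k (Fin n) d := Iff.rfl

instance : SetLike.GradedMonoid (invGr (k := k) (n := n) A) where
  one_mem := by rw [mem_invGr, map_one]; exact SetLike.one_mem_graded _
  mul_mem {i j} a b ha hb := by rw [mem_invGr, map_mul]; exact SetLike.mul_mem_graded ha hb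

variable [Finite G] [SMulCommClass G A (MvPolynomial (Fin n) k)] [Algebra.IsInvariant A (MvPolynomial (Fin n) k) G]
  [FaithfulSMul A (MvPolynomial (Fin n) k)]

lemma exists_comp (hM : IsLinear M) (a : A) (d : ℤ) :
    ∃ b : invGr (k := k) (n := n) A d, algebraMap A (MvPolynomial (Fin n) k) b =
      DirectSum.decompose (GrSyz.stdGr k (Fin n)) (algebraMap A (MvPolynomial (Fin n) k) a) d := by
  obtain ⟨b, hb⟩ := Algebra.IsInvariant.isInvariant (A := A) (G := G)
    (DirectSum.decompose (GrSyz.stdGr k (Fin n)) (algebraMap A (MvPolynomial (Fin n) k) a) d : MvPolynomial (Fin n) k)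
    fun g => by rw [← decompose_smul hM, smul_algebraMap']
  exact ⟨⟨b, (mem_invGr A).2 (hb ▸ (DirectSum.decompose (GrSyz.stdGr k (Fin n)) _ d).2)⟩, hb⟩

lemma decompose_coeAddMonoidHom (x : DirectSum ℤ fun d => invGr (k := k) (n := n) A d) (d : ℤ) :
    (DirectSum.decompose (GrSyz.stdGr k (Fin n))
      (algebraMap A (MvPolynomial (Fin n) k) (DirectSum.coeAddMonoidHom (invGr (k := k) (n := n) A) x)) d : MvPolynomial (Fin n) k) =
      algebraMap A (MvPolynomial (Fin n) k) (x d) := by
  induction x using DirectSum.induction_on with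
  | zero => simp
  | of j q =>
    rw [DirectSum.coeAddMonoidHom_of]
    by_cases h : j = d
    · subst h
      rw [DirectSum.decompose_of_mem_same _ ((mem_invGr A).1 q.2), DirectSum.of_eq_same]
    · rw [DirectSum.decompose_of_mem_ne _ ((mem_invGr A).1 q.2) h, DirectSum.of_eq_of_ne _ _ _ (Ne.symm h),
        AddSubgroup.coe_zero, map_zero]
  | add u v hu hv =>
    simp only [map_add, DirectSum.decompose_add, DirectSum.add_apply, Submodule.coe_add, hu, hv, AddSubgroup.coe_add]

/-- The grading of the invariants. -/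
@[reducible] def gradedRing (hM : IsLinear M) : GradedRing (invGr (k := k) (n := n) A) := by
  classical
  let dec : A → DirectSum ℤ fun d => invGr (k := k) (n := n) A d := fun a =>
    ∑ d ∈ (DirectSum.decompose (GrSyz.stdGr k (Fin n)) (algebraMap A (MvPolynomial (Fin n) k) a)).support,
      DirectSum.of _ d (exists_comp A hM a d).choose
  have hinj := FaithfulSMul.algebraMap_injective A (MvPolynomial (Fin n) k)
  have hl : ∀ a, DirectSum.coeAddMonoidHom (invGr (k := k) (n := n) A) (dec a) = a := fun a => hinj (by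
    simp only [dec, map_sum, DirectSum.coeAddMonoidHom_of, (exists_comp A hM a _).choose_spec]
    exact DirectSum.sum_support_decompose (GrSyz.stdGr k (Fin n)) _)
  exact
    { decompose' := dec
      left_inv := hl
      right_inv := fun x => DFinsupp.ext fun d => Subtype.ext (hinj (by
        rw [← decompose_coeAddMonoidHom A, hl, decompose_coeAddMonoidHom A])) }

theorem isGorensteinRing_invariants (hM : IsLinear M) (hdet : ∀ g, (M g).det = 1)
    (hG : IsUnit ((Nat.card G : ℕ) : k)) : LocCoh.IsGorensteinRing A := by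
  haveI := isMaximal_mA (A := A) hM
  obtain ⟨hN, hP⟩ := gorenstein_at_irrelevant (A := A) hM hdet hG
  haveI := hN
  letI := gradedRing A hM
  let P : HomogeneousIdeal (invGr (k := k) (n := n) A) :=
    ⟨mA (k := k) (n := n) A, fun d a ha => by
      show constantCoeff (algebraMap A (MvPolynomial (Fin n) k)
        (DirectSum.decompose (invGr (k := k) (n := n) A) a d : A)) = 0
      have ha' : constantCoeff (algebraMap A (MvPolynomial (Fin n) k) a) = 0 := ha
      have h := decompose_coeAddMonoidHom A (DirectSum.decompose (invGr (k := k) (n := n) A) a) d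
      rw [show DirectSum.coeAddMonoidHom (invGr (k := k) (n := n) A) (DirectSum.decompose (invGr (k := k) (n := n) A) a) = a
        from (DirectSum.decompose (invGr (k := k) (n := n) A)).left_inv a] at h
      rw [← h]
      rcases eq_or_ne d 0 with rfl | hd
      · exact (GrSyzMin.cst_comp_zero _).trans ha'
      · exact GrSyzMin.cst_eq_zero_of_ne hd (Submodule.coe_mem _)⟩
  haveI : P.toIdeal.IsPrime := (inferInstance : (mA (k := k) (n := n) A).IsMaximal).isPrime
  have hle : ∀ K : HomogeneousIdeal (invGr (k := k) (n := n) A), K.toIdeal ≠ ⊤ → K ≤ P := by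
    intro K hK a ha
    show constantCoeff (algebraMap A (MvPolynomial (Fin n) k) a) = 0
    by_contra hne
    apply hK
    have h0 := K.isHomogeneous 0 ha
    set b : A := (DirectSum.decompose (invGr (k := k) (n := n) A) a 0 : A)
    have hb : algebraMap A (MvPolynomial (Fin n) k) b = C (constantCoeff (algebraMap A (MvPolynomial (Fin n) k) a)) := by
      have h := decompose_coeAddMonoidHom A (DirectSum.decompose (invGr (k := k) (n := n) A) a) 0
      rw [show DirectSum.coeAddMonoidHom (invGr (k := k) (n := n) A) (DirectSum.decompose (invGr (k := k) (n := n) A) a) = a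
        from (DirectSum.decompose (invGr (k := k) (n := n) A)).left_inv a] at h
      have hc := GrSyzMin.cst_comp_zero (algebraMap A (MvPolynomial (Fin n) k) a)
      rw [GrSyzMin.eq_C_of_deg_zero ((mem_invGr A).1 (SetLike.coe_mem (DirectSum.decompose (invGr (k := k) (n := n) A) a 0)))]
      congr 1
      rw [← h]
      exact hc
    obtain ⟨c, hc⟩ := Algebra.IsInvariant.isInvariant (A := A) (G := G)
      (C (constantCoeff (algebraMap A (MvPolynomial (Fin n) k) a))⁻¹ : MvPolynomial (Fin n) k) fun g => hM.1 g _
    refine Ideal.eq_top_of_isUnit_mem _ h0 (IsUnit.of_mul_eq_one c ?_)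
    apply FaithfulSMul.algebraMap_injective A (MvPolynomial (Fin n) k)
    rw [map_mul, hb, hc, ← map_mul, mul_inv_cancel₀ hne, map_one, map_one]
  have hne : P.toIdeal ≠ ⊤ := Ideal.IsPrime.ne_top inferInstance
  have hco : IsCoatom P := ⟨fun h => hne ((HomogeneousIdeal.eq_top_iff P).1 h), fun K hK => by_contra fun h =>
    not_le_of_gt hK (hle K fun h' => h ((HomogeneousIdeal.eq_top_iff K).2 h'))⟩
  exact GrGor.isGorensteinRing_of_starLocal (m := P)
    ⟨hco, fun K hK => ((hle K fun h => hK.1 ((HomogeneousIdeal.eq_top_iff K).2 h)).eq_or_lt).resolve_right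
      fun h => hco.1 (hK.2 P h)⟩ hP

end Groth.Agent.Watanabe
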