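import Groth.Agent.GrGor.ExtReg
import Groth.Agent.GrAvoid.Basic
import Groth.Agent.GrSyzMin.Grading
import Groth.Agent.CechX.KoszulPoly
import Groth.Agent.Catenary.CM
import Mathlib.RingTheory.Invariant.Basic

/-!
Invariant homogeneous regular sequences of full length in a polynomial ring with a linear action.
-/

set_option autoImplicit false
set_option linter.unusedSectionVars false
set_option linter.style.haveILetI false
universe u

open CategoryTheory Abelian RingTheory.Sequence MvPolynomial
open scoped Pointwise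

noncomputable section

namespace Groth.Agent.Watanabe

variable {k : Type u} [Field k] {n : ℕ} {G : Type u} [Group G]
  [MulSemiringAction G (MvPolynomial (Fin n) k)]

/-- The action is by linear substitutions with the matrices `M g`. -/
def IsLinear (M : G → Matrix (Fin n) (Fin n) k) : Prop :=
  (∀ (g : G) (c : k), g • (C c : MvPolynomial (Fin n) k) = C c) ∧
    ∀ (g : G) (i : Fin n), g • (X i : MvPolynomial (Fin n) k) = ∑ j : Fin n, M g j i • (X j : MvPolynomial (Fin n) k)

variable {M : G → Matrix (Fin n) (Fin n) k} (hM : IsLinear M)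

include hM in
lemma smul_eq_eval₂ (g : G) (p : MvPolynomial (Fin n) k) :
    g • p = eval₂Hom C (fun i => ∑ j : Fin n, M g j i • (X j : MvPolynomial (Fin n) k)) p := by
  have h : (MulSemiringAction.toRingHom G (MvPolynomial (Fin n) k) g) =
      eval₂Hom C (fun i => ∑ j : Fin n, M g j i • (X j : MvPolynomial (Fin n) k)) :=
    ringHom_ext (fun c => by simpa using hM.1 g c) fun i => by simpa using hM.2 g i
  exact RingHom.congr_fun h p

include hM in
lemma isHomogeneous_smul (g : G) {p : MvPolynomial (Fin n) k} {d : ℕ} (hp : p.IsHomogeneous d) :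
    (g • p).IsHomogeneous d := by
  rw [smul_eq_eval₂ hM]
  have h := IsHomogeneous.eval₂ (S := k) hp C (fun i => ∑ j : Fin n, M g j i • (X j : MvPolynomial (Fin n) k))
    (n := 1) (fun r => isHomogeneous_C _ r) fun i => IsHomogeneous.sum _ _ _ fun j _ => by
      rw [smul_eq_C_mul]; exact (isHomogeneous_X k j).C_mul _
  rw [one_mul] at h
  exact h

include hM in
lemma cst_smul (g : G) (p : MvPolynomial (Fin n) k) : constantCoeff (g • p) = constantCoeff p := by
  have h : (constantCoeff.comp (MulSemiringAction.toRingHom G (MvPolynomial (Fin n) k) g)) = constantCoeff :=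
    ringHom_ext (fun c => by simp [hM.1 g c]) fun i => by
      simp [hM.2 g i, smul_eq_C_mul]
  exact RingHom.congr_fun h p

lemma stdGr_of_isHomogeneous {p : MvPolynomial (Fin n) k} {d : ℕ} (hp : p.IsHomogeneous d) :
    p ∈ GrSyz.stdGr k (Fin n) (d : ℤ) := by
  rw [GrSyz.mem_stdGr_iff]
  intro e he
  have h : Finsupp.weight (1 : Fin n → ℕ) e = d := hp he
  rw [Finsupp.weight_apply, Finsupp.sum_fintype _ _ (by simp)] at h ⊢
  rw [← h]
  push_cast
  simp

lemma cst_eq_zero {p : MvPolynomial (Fin n) k} {d : ℕ} (hd : 0 < d) (hp : p.IsHomogeneous d) :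
    constantCoeff p = 0 :=
  GrSyzMin.cst_eq_zero_of_ne (d := (d : ℤ)) (by omega) (stdGr_of_isHomogeneous hp)

/-- The kernel of the constant term. -/
def mS (k : Type u) [Field k] (n : ℕ) : Ideal (MvPolynomial (Fin n) k) := RingHom.ker constantCoeff

instance : (mS k n).IsMaximal := RingHom.ker_isMaximal_of_surjective _ fun c => ⟨C c, constantCoeff_C _ c⟩

lemma mS_eq_span : mS k n = Ideal.span (Set.range (X : Fin n → MvPolynomial (Fin n) k)) := by
  refine le_antisymm (fun p hp => ?_) (Ideal.span_le.2 ?_)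
  · rw [mS, RingHom.mem_ker] at hp
    rw [← Set.image_univ, mem_ideal_span_X_image]
    intro e he
    by_contra hne
    push Not at hne
    have : e = 0 := Finsupp.ext fun i => hne i (Set.mem_univ i)
    subst this
    exact (mem_support_iff.1 he) hp
  · rintro _ ⟨i, rfl⟩
    exact constantCoeff_X (R := k) i

variable (A : Type u) [CommRing A] [Algebra A (MvPolynomial (Fin n) k)] [SMulCommClass G A (MvPolynomial (Fin n) k)]
  [Algebra.IsInvariant A (MvPolynomial (Fin n) k) G]

/-- The positive part of the invariants. -/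
def mA : Ideal A := (mS k n).comap (algebraMap A (MvPolynomial (Fin n) k))

include hM in
/-- A prime over all positive invariants is the irrelevant ideal. -/
theorem prime_eq_mS [Finite G] {q : Ideal (MvPolynomial (Fin n) k)} [hq : q.IsPrime]
    (h : mA (k := k) (n := n) A ≤ q.comap (algebraMap A (MvPolynomial (Fin n) k))) : q = mS k n := by
  classical
  have := Fintype.ofFinite G
  refine ((inferInstance : (mS k n).IsMaximal).eq_of_le hq.ne_top ?_).symm
  rw [mS_eq_span, Ideal.span_le]
  rintro _ ⟨i, rfl⟩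
  let x : MvPolynomial (Fin n) k := X i
  let P := MulSemiringAction.charpoly G x
  have hev : P.eval x = 0 := MulSemiringAction.eval_charpoly G x
  rw [Polynomial.eval_eq_sum_range, Finset.sum_range_succ, (MulSemiringAction.monic_charpoly G x).coeff_natDegree,
    one_mul] at hev
  have hlow : ∀ j ∈ Finset.range P.natDegree, P.coeff j * x ^ j ∈ q := by
    intro j hj
    refine Ideal.mul_mem_right _ _ ?_
    obtain ⟨a, ha⟩ := Algebra.IsInvariant.isInvariant (A := A) (P.coeff j)
      (fun g => MulSemiringAction.smul_coeff_charpoly x j g)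
    rw [← ha]
    refine h ?_
    show constantCoeff (algebraMap A (MvPolynomial (Fin n) k) a) = 0
    rw [ha, ← Polynomial.coeff_map]
    have hmap : P.map constantCoeff = Polynomial.X ^ P.natDegree := by
      have hd : P.natDegree = Fintype.card G := by
        show (∏ g : G, (Polynomial.X - Polynomial.C (g • x))).natDegree = _
        rw [Polynomial.natDegree_prod_of_monic _ _ fun g _ => Polynomial.monic_X_sub_C _]
        simp
      rw [hd, show P = ∏ g : G, (Polynomial.X - Polynomial.C (g • x)) from rfl, Polynomial.map_prod]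
      simp [x, cst_smul hM, Finset.card_univ]
    rw [hmap, Polynomial.coeff_X_pow, if_neg (Finset.mem_range.1 hj).ne]
  exact hq.mem_of_pow_mem P.natDegree ((Submodule.add_mem_iff_right q (Submodule.sum_mem q hlow)).1 (hev ▸ q.zero_mem))

attribute [local instance] MvPolynomial.gradedAlgebra

include hM in
/-- An invariant homogeneous element of positive degree outside finitely many primes. -/
theorem exists_invariant_notMem [Finite G] (P : Finset (Ideal (MvPolynomial (Fin n) k)))
    (hP : ∀ p ∈ P, p.IsPrime ∧ ¬ mS k n ≤ p) :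
    ∃ (a : A) (d : ℕ), 0 < d ∧ (algebraMap A (MvPolynomial (Fin n) k) a).IsHomogeneous d ∧
      ∀ p ∈ P, algebraMap A (MvPolynomial (Fin n) k) a ∉ p := by
  classical
  have := Fintype.ofFinite G
  let Q := (Finset.univ : Finset G).biUnion fun g => P.image fun p => p.comap (MulSemiringAction.toRingHom G (MvPolynomial (Fin n) k) g)
  have hirr : (HomogeneousIdeal.irrelevant (homogeneousSubmodule (Fin n) k)).toIdeal = mS k n := by
    refine le_antisymm (fun p hp => ?_) ?_
    · have hp' : GradedRing.proj (homogeneousSubmodule (Fin n) k) 0 p = 0 := hp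
      show constantCoeff p = 0
      have h0 : homogeneousComponent 0 p = 0 := by
        rw [GradedRing.proj_apply] at hp'
        rw [← hp']
        refine (decomposition.decompose'_apply p 0).symm.trans ?_
        rfl
      simpa [homogeneousComponent_zero, constantCoeff_eq] using h0
    · rw [mS_eq_span, Ideal.span_le]
      rintro _ ⟨i, rfl⟩
      show GradedRing.proj (homogeneousSubmodule (Fin n) k) 0 (X i) = 0
      rw [GradedRing.proj_apply, DirectSum.decompose_of_mem_ne _ (isHomogeneous_X k i) one_ne_zero]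
  have hQ : ∀ q ∈ Q, q.IsPrime ∧ ¬ (HomogeneousIdeal.irrelevant (homogeneousSubmodule (Fin n) k)).toIdeal ≤ q ∧
      ¬ (HomogeneousIdeal.irrelevant (homogeneousSubmodule (Fin n) k)).toIdeal ≤ q := by
    intro q hq
    obtain ⟨g, -, hg⟩ := Finset.mem_biUnion.1 hq
    obtain ⟨p, hp, rfl⟩ := Finset.mem_image.1 hg
    have hne : ¬ mS k n ≤ p.comap (MulSemiringAction.toRingHom G (MvPolynomial (Fin n) k) g) := by
      intro hle
      refine (hP p hp).2 fun y hy => ?_
      have h1 := hle (show g⁻¹ • y ∈ mS k n by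
        show constantCoeff (g⁻¹ • y) = 0
        rw [cst_smul hM]; exact hy)
      simpa using h1
    haveI := (hP p hp).1
    exact ⟨Ideal.IsPrime.comap _, hirr ▸ hne, hirr ▸ hne⟩
  obtain ⟨z, d, hd, hz, -, hzQ⟩ := GrAvoid.exists_notMem (homogeneousSubmodule (Fin n) k) _
    (HomogeneousIdeal.irrelevant (homogeneousSubmodule (Fin n) k)).isHomogeneous Q hQ
  obtain ⟨a, ha⟩ := Algebra.IsInvariant.isInvariant (A := A) (G := G) (∏ g : G, g • z) (fun g => by
    rw [Finset.smul_prod']
    exact Fintype.prod_equiv (Equiv.mulLeft g) _ _ fun h => by simp [mul_smul])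
  refine ⟨a, ∑ _g : G, d, by simpa [Finset.card_univ] using Nat.mul_pos Fintype.card_pos hd, ?_, fun p hp hmem => ?_⟩
  · rw [ha]
    exact IsHomogeneous.prod _ _ _ fun g _ => isHomogeneous_smul hM g hz
  · rw [ha] at hmem
    haveI := (hP p hp).1
    obtain ⟨g, -, hg⟩ := Ideal.IsPrime.prod_mem_iff.1 hmem
    exact hzQ _ (Finset.mem_biUnion.2 ⟨g, Finset.mem_univ g, Finset.mem_image.2 ⟨p, hp, rfl⟩⟩) hg

include hM in
/-- Regular sequences in the invariants as long as the depth at the irrelevant ideal. -/
theorem exists_regular_of_ext [Finite G] : ∀ (l : ℕ) (N : Type u) [AddCommGroup N] [Module (MvPolynomial (Fin n) k) N]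
    [Module.Finite (MvPolynomial (Fin n) k) N],
    (∀ i < l, Subsingleton (Ext.{u} (ModuleCat.of (MvPolynomial (Fin n) k) (MvPolynomial (Fin n) k ⧸ mS k n))
      (ModuleCat.of (MvPolynomial (Fin n) k) N) i)) →
    ∃ rs : List A, rs.length = l ∧ IsWeaklyRegular N (rs.map (algebraMap A (MvPolynomial (Fin n) k))) ∧
      ∀ a ∈ rs, ∃ d : ℕ, 0 < d ∧ (algebraMap A (MvPolynomial (Fin n) k) a).IsHomogeneous d := by
  intro l
  induction l with
  | zero => intro N _ _ _ _; exact ⟨[], rfl, IsWeaklyRegular.nil _ _, by simp⟩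
  | succ l ih =>
    intro N _ _ _ hN
    have hm : ∀ p ∈ associatedPrimes (MvPolynomial (Fin n) k) N, p.IsPrime ∧ ¬ mS k n ≤ p := by
      intro p hp
      refine ⟨IsAssociatedPrime.isPrime hp, fun hle => ?_⟩
      obtain ⟨hpp, y, hy⟩ := isAssociatedPrime_iff.1 (AssociatedPrimes.mem_iff.1 hp)
      haveI := hN 0 (Nat.succ_pos l)
      have hk : mS k n ≤ LinearMap.ker (LinearMap.toSpanSingleton (MvPolynomial (Fin n) k) N y) := fun r hr => by
        have h1 := hle hr
        rw [hy, Submodule.mem_colon_singleton, Submodule.mem_bot] at h1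
        exact h1
      have h0 : Submodule.liftQ (mS k n) (LinearMap.toSpanSingleton (MvPolynomial (Fin n) k) N y) hk = 0 := by
        have h1 := Subsingleton.elim (Ext.mk₀.{u} (ModuleCat.ofHom (Submodule.liftQ (mS k n) _ hk))) 0
        rw [← Ext.mk₀_zero] at h1
        exact congrArg ModuleCat.Hom.hom ((Ext.mk₀_bijective _ _).1 h1)
      have hy0 : y = 0 := by
        have := LinearMap.congr_fun h0 (Submodule.Quotient.mk 1)
        rw [Submodule.liftQ_apply, LinearMap.toSpanSingleton_apply, one_smul, LinearMap.zero_apply] at this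
        exact this
      apply hpp.ne_top
      rw [hy, hy0, Ideal.eq_top_iff_one, Submodule.mem_colon_singleton, smul_zero]
      exact zero_mem _
    obtain ⟨a, d, hd, ha, hap⟩ := exists_invariant_notMem hM A
      (associatedPrimes.finite (MvPolynomial (Fin n) k) N).toFinset (fun p hp => hm p ((Set.Finite.mem_toFinset _).1 hp))
    set z := algebraMap A (MvPolynomial (Fin n) k) a with hz
    have hreg : IsSMulRegular N z := isSMulRegular_iff_right_eq_zero_of_smul.2 fun y hy => by
      by_contra hy0
      obtain ⟨P, hP, hle⟩ := exists_le_isAssociatedPrime_of_isNoetherianRing (MvPolynomial (Fin n) k) y hy0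
      exact hap P ((Set.Finite.mem_toFinset _).2 (AssociatedPrimes.mem_iff.2 hP)) (hle (by
        rw [Submodule.mem_colon_singleton, Submodule.mem_bot]; exact hy))
    have hπ : ∀ m, (z • (⊤ : Submodule (MvPolynomial (Fin n) k) N)).mkQ m = 0 ↔ ∃ y, m = z • y := fun m => by
      rw [Submodule.mkQ_apply, Submodule.Quotient.mk_eq_zero, Submodule.mem_smul_pointwise_iff_exists]
      exact ⟨fun ⟨y, _, hy⟩ => ⟨y, hy.symm⟩, fun ⟨y, hy⟩ => ⟨y, Submodule.mem_top, hy.symm⟩⟩
    have hW : ∀ w : MvPolynomial (Fin n) k ⧸ mS k n, z • w = 0 := fun w => by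
      obtain ⟨w, rfl⟩ := Submodule.Quotient.mk_surjective _ w
      exact (Submodule.Quotient.mk_eq_zero _).2 (Ideal.mul_mem_right _ _ (cst_eq_zero hd ha))
    obtain ⟨rs, hlen, hrs, hdeg⟩ := ih (QuotSMulTop z N) fun i hi => by
      haveI := hN (i + 1) (by omega)
      obtain ⟨e⟩ := GrGor.ext_shift (W := MvPolynomial (Fin n) k ⧸ mS k n) hreg _ (Submodule.mkQ_surjective _) hπ hW
        (hN i (by omega))
      exact e.toEquiv.subsingleton
    refine ⟨a :: rs, by simp [hlen], ?_, fun b hb => ?_⟩
    · rw [List.map_cons, isWeaklyRegular_cons_iff]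
      exact ⟨hreg, hrs⟩
    · rcases List.mem_cons.1 hb with rfl | hb
      · exact ⟨d, hd, ha⟩
      · exact hdeg b hb

include hM in
/-- An invariant homogeneous regular sequence whose ideal is primary to the irrelevant ideal. -/
theorem exists_hsop [Finite G] :
    ∃ rs : List A, rs.length = n ∧ IsWeaklyRegular (MvPolynomial (Fin n) k) (rs.map (algebraMap A (MvPolynomial (Fin n) k))) ∧
      (∀ a ∈ rs, a ∈ mA (k := k) (n := n) A) ∧
      ∃ N : ℕ, mS k n ^ N ≤ Ideal.ofList (rs.map (algebraMap A (MvPolynomial (Fin n) k))) := by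
  have hX : ∀ r ∈ List.ofFn (X : Fin n → MvPolynomial (Fin n) k), ∀ w : MvPolynomial (Fin n) k ⧸ mS k n, r • w = 0 := by
    intro r hr w
    obtain ⟨i, rfl⟩ := List.mem_ofFn.1 hr
    obtain ⟨w, rfl⟩ := Submodule.Quotient.mk_surjective _ w
    exact (Submodule.Quotient.mk_eq_zero _).2 (Ideal.mul_mem_right _ _ (constantCoeff_X (R := k) i))
  obtain ⟨rs, hlen, hreg, hdeg⟩ := exists_regular_of_ext hM A n (MvPolynomial (Fin n) k)
    (by simpa using (GrGor.ext_of_regular _ _ (CechX.isWeaklyRegular_X n) hX).1)
  refine ⟨rs, hlen, hreg, fun a ha => ?_, ?_⟩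
  · obtain ⟨d, hd, h⟩ := hdeg a ha
    exact cst_eq_zero hd h
  let K := Ideal.ofList (rs.map (algebraMap A (MvPolynomial (Fin n) k)))
  have hdim : ringKrullDim (MvPolynomial (Fin n) k) = (n : WithBot ℕ∞) := by simp
  have hle : ∀ q : Ideal (MvPolynomial (Fin n) k), q.IsPrime → q.height ≤ (n : ℕ∞) := fun q hq => by
    haveI := hq
    have h1 := Ideal.height_le_ringKrullDim_of_ne_top hq.ne_top
    rw [hdim] at h1
    exact_mod_cast h1
  have hq : ∀ q : Ideal (MvPolynomial (Fin n) k), q.IsPrime → K ≤ q → q = mS k n := by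
    intro q hq hKq
    haveI := hq
    let c := (q.homogeneousCore (GrSyz.stdGr k (Fin n))).toIdeal
    haveI : c.IsPrime := Ideal.IsPrime.homogeneousCore hq
    have hc : ∀ r ∈ rs.map (algebraMap A (MvPolynomial (Fin n) k)), r ∈ c := by
      intro r hr
      obtain ⟨a, ha, rfl⟩ := List.mem_map.1 hr
      obtain ⟨d, -, h⟩ := hdeg a ha
      exact Ideal.mem_homogeneousCore_of_homogeneous_of_mem ⟨_, stdGr_of_isHomogeneous h⟩
        (hKq (Ideal.subset_span (List.mem_map.2 ⟨a, ha, rfl⟩)))
    have h1 : (n : ℕ∞) ≤ c.height := by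
      simpa [hlen] using Catenary.length_le_height hreg c hc
    have hcq : c = q := by
      by_contra hne
      haveI : c.FiniteHeight := ⟨Or.inr (ne_top_of_le_ne_top (ENat.natCast_ne_top n) (hle c inferInstance))⟩
      have := Ideal.height_strict_mono_of_isPrime (lt_of_le_of_ne (Ideal.toIdeal_homogeneousCore_le _ q) hne)
      exact absurd (lt_of_le_of_lt h1 this) (not_lt.2 (hle q hq))
    have hqm : q ≤ mS k n := by
      intro p hp
      rw [← hcq] at hp
      show constantCoeff p = 0
      have h0 := (q.homogeneousCore (GrSyz.stdGr k (Fin n))).isHomogeneous 0 hp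
      have hm0 := (DirectSum.decompose (GrSyz.stdGr k (Fin n)) p 0).2
      rw [← GrSyzMin.cst_comp_zero]
      show constantCoeff (DirectSum.decompose (GrSyz.stdGr k (Fin n)) p 0 : MvPolynomial (Fin n) k) = 0
      by_contra hne
      refine (inferInstance : c.IsPrime).ne_top (Ideal.eq_top_of_isUnit_mem c h0 ?_)
      rw [GrSyzMin.eq_C_of_deg_zero hm0]
      exact (isUnit_iff_ne_zero.2 hne).map C
    by_contra hne
    haveI : q.FiniteHeight := ⟨Or.inr (ne_top_of_le_ne_top (ENat.natCast_ne_top n) (hle q hq))⟩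
    have h2 := Ideal.height_strict_mono_of_isPrime (lt_of_le_of_ne hqm hne)
    rw [hcq] at h1
    exact absurd (lt_of_le_of_lt h1 h2) (not_lt.2 (hle (mS k n) inferInstance))
  obtain ⟨N, hN⟩ := Ideal.exists_radical_pow_le_of_fg K (IsNoetherian.noetherian _)
  refine ⟨N, le_trans (Ideal.pow_right_mono (fun x hx => ?_) N) hN⟩
  rw [Ideal.radical_eq_sInf, Ideal.mem_sInf]
  rintro q ⟨hKq, hqp⟩
  exact hq q hqp hKq ▸ hx

end Groth.Agent.Watanabe
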