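import Groth.Agent.Watanabe.Seq
import Groth.Agent.Wiebe.Basic
import Groth.Agent.KoszulLib.Basic
import Groth.Agent.Goren.Artin
import Groth.Agent.GrGor.Veronese

/-!
Invariants of a finite group acting linearly with determinant one form a Gorenstein ring.
-/

set_option autoImplicit false
set_option linter.unusedSectionVars false
set_option linter.style.haveILetI false
universe u

open IsLocalRing RingTheory.Sequence MvPolynomial

noncomputable section

namespace Groth.Agent.Watanabe

/-- Two matrices expressing the same regular sequence have congruent determinants. -/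
theorem det_sub_det_mem {R : Type u} [CommRing R] {n : ℕ} {f g : Fin n → R} (hg : Wiebe.Acyclic g)
    (c c' : Matrix (Fin n) (Fin n) R) (hc : ∀ i, f i = ∑ j, c i j * g j) (hc' : ∀ i, f i = ∑ j, c' i j * g j) :
    c.det - c'.det ∈ Ideal.span (Set.range f) := by
  have hfe : (fun i => ∑ j, c i j * g j) = f := funext fun i => (hc i).symm
  have hfe' : (fun i => ∑ j, c' i j * g j) = f := funext fun i => (hc' i).symm
  obtain ⟨η, hη, -⟩ := Wiebe.exists_homotopy hg f (Wiebe.psi (fun i j => c i j) - Wiebe.psi (fun i j => c' i j))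
    (fun z => by simp [Wiebe.d_psi, hfe, hfe']) (fun z => by simp [Wiebe.eps_psi])
  have key := congrArg Wiebe.pi (hη (Wiebe.top R n))
  simp [Wiebe.pi_d, Wiebe.psi_top, Wiebe.pi_top] at key
  rw [← key]
  exact Wiebe.pi_mem _ _ (Wiebe.map_mem η _ _ (Wiebe.d_mem f _))

/-- A simple socle passes to the localization at the only prime over the ideal. -/
theorem gorenstein_atPrime_of_socle {A : Type u} [CommRing A] [IsNoetherianRing A] (P : Ideal A) [hP : P.IsMaximal]
    (rs : List A) (hrs : IsWeaklyRegular A rs) (hm : Ideal.ofList rs ≤ P) {N : ℕ} (hN : P ^ N ≤ Ideal.ofList rs)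
    (u : A) (hu : u ∉ Ideal.ofList rs) (hu' : ∀ x ∈ P, x * u ∈ Ideal.ofList rs)
    (hsoc : ∀ a, (∀ x ∈ P, x * a ∈ Ideal.ofList rs) → ∃ c, a - c * u ∈ Ideal.ofList rs) :
    LocCoh.IsGorensteinLocalRing (Localization.AtPrime P) := by
  let L := Localization.AtPrime P
  haveI : IsNoetherianRing L := IsLocalization.isNoetherianRing P.primeCompl L inferInstance
  let rs' := rs.map (algebraMap A L)
  have hK : Ideal.ofList rs' = (Ideal.ofList rs).map (algebraMap A L) := by rw [Ideal.map_ofList]
  have hle : Ideal.ofList rs' ≤ maximalIdeal L := by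
    rw [hK, Ideal.map_le_iff_le_comap]
    exact fun x hx => (IsLocalization.AtPrime.to_map_mem_maximal_iff L P x).2 (hm hx)
  haveI : Nontrivial (L ⧸ Ideal.ofList rs') :=
    Ideal.Quotient.nontrivial_iff.2 (ne_top_of_le_ne_top (maximalIdeal.isMaximal L).ne_top hle)
  haveI : IsLocalRing (L ⧸ Ideal.ofList rs') := IsLocalRing.of_surjective' _ Ideal.Quotient.mk_surjective
  have hinv : ∀ s, s ∉ P → ∃ t, t * s - 1 ∈ Ideal.ofList rs := by
    intro s hs
    have htop : Ideal.span {s} ⊔ Ideal.ofList rs = ⊤ := by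
      by_contra hne
      obtain ⟨M, hM, hle⟩ := Ideal.exists_le_maximal _ hne
      have hPM : P ≤ M := hM.isPrime.le_of_pow_le (hN.trans (le_sup_right.trans hle))
      rw [← hP.eq_of_le hM.ne_top hPM] at hle
      exact hs (hle (Ideal.mem_sup_left (Ideal.mem_span_singleton_self s)))
    obtain ⟨y, hy, z, hz, hyz⟩ := Submodule.mem_sup.1 ((Ideal.eq_top_iff_one _).1 htop)
    obtain ⟨t, rfl⟩ := Ideal.mem_span_singleton'.1 hy
    exact ⟨t, by rw [show t * s - 1 = -z by linear_combination hyz]; exact neg_mem hz⟩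
  let φ : A →+* L ⧸ Ideal.ofList rs' := (Ideal.Quotient.mk (Ideal.ofList rs')).comp (algebraMap A L)
  have hker : ∀ a, φ a = 0 ↔ a ∈ Ideal.ofList rs := fun a => by
    show Ideal.Quotient.mk (Ideal.ofList rs') (algebraMap A L a) = 0 ↔ _
    rw [Ideal.Quotient.eq_zero_iff_mem, hK, IsLocalization.algebraMap_mem_map_algebraMap_iff P.primeCompl L]
    refine ⟨fun ⟨s, hs, hsa⟩ => ?_, fun h => ⟨1, P.primeCompl.one_mem, by rwa [one_mul]⟩⟩
    obtain ⟨t, ht⟩ := hinv s hs
    rw [show a = t * (s * a) - (t * s - 1) * a by ring]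
    exact sub_mem (Ideal.mul_mem_left _ _ hsa) (Ideal.mul_mem_right _ _ ht)
  have hsurj : Function.Surjective φ := by
    intro b
    obtain ⟨b, rfl⟩ := Ideal.Quotient.mk_surjective b
    obtain ⟨a, s, rfl⟩ := IsLocalization.exists_mk'_eq P.primeCompl b
    obtain ⟨t, ht⟩ := hinv s s.2
    refine ⟨t * a, (Ideal.Quotient.eq).2 ?_⟩
    have h1 : algebraMap A L (t * a) - IsLocalization.mk' L a s =
        IsLocalization.mk' L 1 s * algebraMap A L ((t * (s : A) - 1) * a) := by
      rw [IsLocalization.mk'_eq_mul_mk'_one a s, map_mul, map_mul, map_sub, map_mul, map_one]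
      have := IsLocalization.mk'_spec L (1 : A) s
      rw [map_one] at this
      linear_combination (-(algebraMap A L t * algebraMap A L a)) * this
    rw [h1, hK]
    exact Ideal.mul_mem_left _ _ (Ideal.mem_map_of_mem _ (Ideal.mul_mem_right _ _ ht))
  have hdim : ringKrullDim (L ⧸ Ideal.ofList rs') = 0 := by
    haveI : Ring.KrullDimLE 0 (L ⧸ Ideal.ofList rs') := Ring.krullDimLE_zero_iff.2 fun Q hQ => by
      haveI := hQ
      have hKQ : P ^ N ≤ Q.comap φ := fun x hx => by
        rw [Ideal.mem_comap, (hker x).2 (hN hx)]; exact zero_mem _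
      haveI : (Q.comap φ).IsPrime := Ideal.IsPrime.comap φ
      have heq : P = Q.comap φ := hP.eq_of_le (Ideal.IsPrime.ne_top inferInstance) ((inferInstance : (Q.comap φ).IsPrime).le_of_pow_le hKQ)
      rw [← Ideal.map_comap_of_surjective φ hsurj Q, ← heq]
      rcases Ideal.map_eq_top_or_isMaximal_of_surjective φ hsurj hP with h | h
      · exfalso
        apply hQ.ne_top
        rw [← Ideal.map_comap_of_surjective φ hsurj Q, ← heq, h]
      · exact h
    exact ringKrullDimZero_iff_ringKrullDim_eq_zero.1 inferInstance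
  refine (Goren.gorenstein_iff_socSimple_quot L rs' hrs.of_flat (fun r hr => hle (Ideal.subset_span hr)) hdim).2 ?_
  have hmax : ∀ x, φ x ∈ maximalIdeal (L ⧸ Ideal.ofList rs') ↔ x ∈ P := fun x => by
    haveI : ((maximalIdeal (L ⧸ Ideal.ofList rs')).comap φ).IsMaximal := Ideal.comap_isMaximal_of_surjective φ hsurj
    have h1 : P ^ N ≤ (maximalIdeal (L ⧸ Ideal.ofList rs')).comap φ := fun y hy => by
      rw [Ideal.mem_comap, (hker y).2 (hN hy)]; exact zero_mem _
    have h2 := hP.eq_of_le (Ideal.IsMaximal.ne_top inferInstance)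
      ((inferInstance : ((maximalIdeal (L ⧸ Ideal.ofList rs')).comap φ).IsMaximal).isPrime.le_of_pow_le h1)
    rw [← Ideal.mem_comap, ← h2]
  refine ⟨φ u, fun h => hu ((hker u).1 h), fun y hy => ?_, fun b hb => ?_⟩
  · obtain ⟨x, rfl⟩ := hsurj y
    rw [← map_mul]
    exact (hker _).2 (hu' x ((hmax x).1 hy))
  · obtain ⟨a, rfl⟩ := hsurj b
    obtain ⟨c, hc⟩ := hsoc a fun x hx => (hker _).1 (by rw [map_mul]; exact hb _ ((hmax x).2 hx))
    have h := (hker _).2 hc
    rw [map_sub, sub_eq_zero, map_mul] at h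
    exact h ▸ Ideal.mem_span_singleton'.2 ⟨φ c, rfl⟩

variable {k : Type u} [Field k] {n : ℕ} {G : Type u} [Group G] [Finite G]
  [MulSemiringAction G (MvPolynomial (Fin n) k)]
  {M : G → Matrix (Fin n) (Fin n) k}
  {A : Type u} [CommRing A] [Algebra A (MvPolynomial (Fin n) k)] [SMulCommClass G A (MvPolynomial (Fin n) k)]
  [Algebra.IsInvariant A (MvPolynomial (Fin n) k) G] [FaithfulSMul A (MvPolynomial (Fin n) k)]

local notation "ι" => algebraMap A (MvPolynomial (Fin _) _)

lemma smul_algebraMap' (g : G) (a : A) :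
    g • (algebraMap A (MvPolynomial (Fin n) k) a) = algebraMap A (MvPolynomial (Fin n) k) a := by
  rw [Algebra.algebraMap_eq_smul_one, smul_comm, smul_one]

theorem isMaximal_mA (hM : IsLinear M) : (mA (k := k) (n := n) A).IsMaximal := by
  have h : Function.Surjective (constantCoeff.comp (algebraMap A (MvPolynomial (Fin n) k))) := fun c => by
    obtain ⟨a, ha⟩ := Algebra.IsInvariant.isInvariant (A := A) (G := G) (C c : MvPolynomial (Fin n) k) fun g => hM.1 g c
    exact ⟨a, by show constantCoeff (algebraMap A _ a) = c; rw [ha, constantCoeff_C]⟩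
  have := RingHom.ker_isMaximal_of_surjective _ h
  rwa [← RingHom.comap_ker] at this

/-- The Reynolds operator. -/
theorem exists_reynolds (hM : IsLinear M) (hG : IsUnit ((Nat.card G : ℕ) : k)) :
    ∃ π : MvPolynomial (Fin n) k →ₗ[A] A, (∀ a : A, π (algebraMap A (MvPolynomial (Fin n) k) a) = a) ∧
      ∀ p, constantCoeff (algebraMap A (MvPolynomial (Fin n) k) (π p)) = constantCoeff p ∧
        ∀ (J : Ideal (MvPolynomial (Fin n) k)), (∀ g : G, g • p - p ∈ J) →
          algebraMap A (MvPolynomial (Fin n) k) (π p) - p ∈ J := by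
  have := Fintype.ofFinite G
  obtain ⟨u, hu⟩ := hG
  let avg : MvPolynomial (Fin n) k →ₗ[A] MvPolynomial (Fin n) k :=
    { toFun := fun p => C ((u⁻¹ : kˣ) : k) * ∑ g : G, g • p
      map_add' := fun p q => by simp [Finset.sum_add_distrib, mul_add]
      map_smul' := fun a p => by
        simp only [RingHom.id_apply]
        rw [← mul_smul_comm, Finset.smul_sum]
        exact congrArg _ (Finset.sum_congr rfl fun g _ => smul_comm g a p) }
  have hfix : ∀ p, avg p ∈ LinearMap.range (Algebra.linearMap A (MvPolynomial (Fin n) k)) := fun p => by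
    obtain ⟨a, ha⟩ := Algebra.IsInvariant.isInvariant (A := A) (G := G) (avg p) fun g => by
      show g • (C _ * ∑ h : G, h • p) = _
      rw [smul_mul', hM.1, Finset.smul_sum]
      exact congrArg _ (Fintype.sum_equiv (Equiv.mulLeft g) _ _ fun h => by simp [mul_smul])
    exact ⟨a, ha⟩
  have hinj : Function.Injective (Algebra.linearMap A (MvPolynomial (Fin n) k)) := FaithfulSMul.algebraMap_injective _ _
  let π : MvPolynomial (Fin n) k →ₗ[A] A :=
    (LinearEquiv.ofInjective _ hinj).symm.toLinearMap ∘ₗ avg.codRestrict _ hfix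
  have hπ : ∀ p, algebraMap A (MvPolynomial (Fin n) k) (π p) = avg p := fun p => by
    have := LinearEquiv.apply_symm_apply (LinearEquiv.ofInjective _ hinj) (avg.codRestrict _ hfix p)
    exact congrArg Subtype.val this
  have hcard : C ((u⁻¹ : kˣ) : k) * ((Fintype.card G : ℕ) : MvPolynomial (Fin n) k) = 1 := by
    rw [← Nat.card_eq_fintype_card, ← map_natCast (C : k →+* MvPolynomial (Fin n) k), ← hu, ← map_mul, Units.inv_mul, map_one]
  refine ⟨π, fun a => FaithfulSMul.algebraMap_injective A (MvPolynomial (Fin n) k) ?_, fun p => ⟨?_, fun J hJ => ?_⟩⟩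
  · rw [hπ]
    show C _ * ∑ g : G, g • _ = _
    simp only [smul_algebraMap', Finset.sum_const, Finset.card_univ, nsmul_eq_mul, ← mul_assoc, hcard, one_mul]
  · rw [hπ]
    show constantCoeff (C _ * ∑ g : G, g • p) = _
    simp only [map_mul, map_sum, cst_smul hM, Finset.sum_const, Finset.card_univ, nsmul_eq_mul, constantCoeff_C]
    rw [← mul_assoc, ← Nat.card_eq_fintype_card, ← hu, Units.inv_mul, one_mul]
  · rw [hπ]
    show C _ * (∑ g : G, g • p) - p ∈ J
    have e : C ((u⁻¹ : kˣ) : k) * (∑ g : G, g • p) - p = C ((u⁻¹ : kˣ) : k) * ∑ g : G, (g • p - p) := by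
      rw [Finset.sum_sub_distrib, Finset.sum_const, Finset.card_univ, nsmul_eq_mul, mul_sub, ← mul_assoc, hcard, one_mul]
    rw [e]
    exact J.mul_mem_left _ (Submodule.sum_mem _ fun g _ => hJ g)

section Retract

variable {π : MvPolynomial (Fin n) k →ₗ[A] A} (hπ : ∀ a : A, π (algebraMap A (MvPolynomial (Fin n) k) a) = a)

include hπ in
lemma mem_of_map_mem {I : Ideal A} {a : A}
    (h : algebraMap A (MvPolynomial (Fin n) k) a ∈ I.map (algebraMap A (MvPolynomial (Fin n) k))) : a ∈ I := by
  have h' : algebraMap A (MvPolynomial (Fin n) k) a ∈ I • (⊤ : Submodule A (MvPolynomial (Fin n) k)) := by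
    rw [Ideal.smul_top_eq_map]; exact h
  rw [← hπ a]
  refine Submodule.smul_induction_on (p := fun x => π x ∈ I) h' (fun r hr x _ => ?_) fun x y hx hy => ?_
  · rw [map_smul, smul_eq_mul]; exact I.mul_mem_right _ hr
  · rw [map_add]; exact add_mem hx hy

include hπ in
lemma isNoetherianRing_invariants : IsNoetherianRing A :=
  isNoetherianRing_iff.2 <| isNoetherian_iff'.2 <| StrictMono.wellFoundedGT
    (f := fun I : Ideal A => I.map (algebraMap A (MvPolynomial (Fin n) k)))
    (Monotone.strictMono_of_injective (fun _ _ h => Ideal.map_mono h) fun I J h => le_antisymm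
      (fun _ ha => mem_of_map_mem hπ (h ▸ Ideal.mem_map_of_mem _ ha))
      (fun _ ha => mem_of_map_mem hπ (h.symm ▸ Ideal.mem_map_of_mem _ ha)))

include hπ in
lemma isWeaklyRegular_invariants {rs : List A}
    (h : IsWeaklyRegular (MvPolynomial (Fin n) k) (rs.map (algebraMap A (MvPolynomial (Fin n) k)))) :
    IsWeaklyRegular A rs := by
  refine (isWeaklyRegular_iff A rs).2 fun i hi => ?_
  have h' := (isWeaklyRegular_iff _ _).1 h i (by simpa using hi)
  refine isSMulRegular_iff_right_eq_zero_of_smul.2 fun x hx => ?_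
  obtain ⟨x, rfl⟩ := Submodule.Quotient.mk_surjective _ x
  rw [← Submodule.Quotient.mk_smul, Submodule.Quotient.mk_eq_zero, smul_eq_mul, smul_eq_mul, Ideal.mul_top] at hx
  rw [Submodule.Quotient.mk_eq_zero, smul_eq_mul, Ideal.mul_top]
  refine mem_of_map_mem hπ ?_
  have key : Submodule.Quotient.mk (algebraMap A (MvPolynomial (Fin n) k) x) = (0 : MvPolynomial (Fin n) k ⧸
      (Ideal.ofList ((rs.map (algebraMap A (MvPolynomial (Fin n) k))).take i) • ⊤ : Submodule (MvPolynomial (Fin n) k) (MvPolynomial (Fin n) k))) := by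
    refine h'.right_eq_zero_of_smul ?_
    rw [List.getElem_map, ← Submodule.Quotient.mk_smul, Submodule.Quotient.mk_eq_zero, smul_eq_mul, smul_eq_mul,
      Ideal.mul_top, ← List.map_take, ← Ideal.map_ofList, ← map_mul]
    exact Ideal.mem_map_of_mem _ hx
  rwa [Submodule.Quotient.mk_eq_zero, smul_eq_mul, Ideal.mul_top, ← List.map_take, ← Ideal.map_ofList] at key

end Retract

/-- Gorenstein at the irrelevant ideal. -/
theorem gorenstein_at_irrelevant (hM : IsLinear M) (hdet : ∀ g, (M g).det = 1) (hG : IsUnit ((Nat.card G : ℕ) : k))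
    [(mA (k := k) (n := n) A).IsMaximal] :
    IsNoetherianRing A ∧ LocCoh.IsGorensteinLocalRing (Localization.AtPrime (mA (k := k) (n := n) A)) := by
  classical
  obtain ⟨π, hπ, hπ'⟩ := exists_reynolds (A := A) hM hG
  haveI := isNoetherianRing_invariants hπ
  refine ⟨inferInstance, ?_⟩
  obtain ⟨rs, hlen, hreg, hpos, N, hN⟩ := exists_hsop hM A
  let KA := Ideal.ofList rs
  let f : Fin n → MvPolynomial (Fin n) k := fun i => algebraMap A _ (rs.get (Fin.cast hlen.symm i))
  have hlist : List.ofFn f = rs.map (algebraMap A (MvPolynomial (Fin n) k)) := by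
    refine List.ext_getElem (by simp [hlen]) fun i h1 h2 => ?_
    simp [f]
  have hKS : Ideal.span (Set.range f) = KA.map (algebraMap A (MvPolynomial (Fin n) k)) := by
    rw [Ideal.map_ofList, ← hlist]
    show _ = Ideal.span _
    congr 1
    ext x
    simp [List.mem_ofFn]
  have hN' : mS k n ^ N ≤ Ideal.span (Set.range f) := by rw [hKS, Ideal.map_ofList]; exact hN
  have hfm : ∀ i, f i ∈ Ideal.span (Set.range (X : Fin n → MvPolynomial (Fin n) k)) := fun i => by
    rw [← mS_eq_span]; exact hpos _ (List.get_mem _ _)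
  choose c hc using fun i => Ideal.mem_span_range_iff_exists_fun.1 (hfm i)
  let cM : Matrix (Fin n) (Fin n) (MvPolynomial (Fin n) k) := Matrix.of c
  have hcM : ∀ i, f i = ∑ j, cM i j * X j := fun i => (hc i).symm
  set Δ := cM.det with hΔ
  have hX : Wiebe.Acyclic (X : Fin n → MvPolynomial (Fin n) k) :=
    KoszulLib.acyclic_of_isWeaklyRegular' (CechX.isWeaklyRegular_X n)
  have hf : Wiebe.Acyclic f := KoszulLib.acyclic_of_isWeaklyRegular' (hlist ▸ hreg)
  have hΔm : ∀ x ∈ mS k n, x * Δ ∈ Ideal.span (Set.range f) := fun x hx => by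
    have hle : mS k n ≤ Submodule.colon (Ideal.span (Set.range f)) ({Δ} : Set (MvPolynomial (Fin n) k)) := by
      rw [mS_eq_span, Ideal.span_le]
      rintro _ ⟨j, rfl⟩
      rw [SetLike.mem_coe, Submodule.mem_colon_singleton, smul_eq_mul, mul_comm]
      exact Wiebe.det_mul_mem cM hcM j
    have h1 := hle hx
    rwa [Submodule.mem_colon_singleton, smul_eq_mul] at h1
  have hcolon : ∀ p : MvPolynomial (Fin n) k, (∀ x ∈ mS k n, x * p ∈ Ideal.span (Set.range f)) →
      ∃ b, p - b * Δ ∈ Ideal.span (Set.range f) := by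
    intro p hp
    obtain ⟨y, hy, z, hz, hyz⟩ := Submodule.mem_sup.1 (Wiebe.mem_of_mul_mem hf cM hcM (a := p) fun j => by
      rw [mul_comm]; exact hp _ (constantCoeff_X (R := k) j))
    obtain ⟨b, rfl⟩ := Ideal.mem_span_singleton'.1 hz
    exact ⟨b, by rw [← hyz, add_sub_cancel_right]; exact hy⟩
  have hsocS : ∀ p, p ∉ Ideal.span (Set.range f) → ∃ b, b * p - Δ ∈ Ideal.span (Set.range f) := by
    have hmain : ∀ (e : ℕ) (p : MvPolynomial (Fin n) k), p ∉ Ideal.span (Set.range f) →
        (∀ x ∈ mS k n ^ e, x * p ∈ Ideal.span (Set.range f)) → ∃ b, b * p - Δ ∈ Ideal.span (Set.range f) := by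
      intro e
      induction e with
      | zero => intro p hp h; exact absurd (by simpa using h 1 (by simp)) hp
      | succ e ih =>
        intro p hp h
        by_cases hall : ∀ x ∈ mS k n, x * p ∈ Ideal.span (Set.range f)
        · obtain ⟨b, hb⟩ := hcolon p hall
          have hb0 : constantCoeff b ≠ 0 := fun hb0 => hp (by
            rw [show p = (p - b * Δ) + b * Δ by ring]
            exact add_mem hb (hΔm b hb0))
          refine ⟨C (constantCoeff b)⁻¹, ?_⟩
          have h1 : constantCoeff (C (constantCoeff b)⁻¹ * b - 1 : MvPolynomial (Fin n) k) = 0 := by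
            simp [inv_mul_cancel₀ hb0]
          rw [show C (constantCoeff b)⁻¹ * p - Δ = C (constantCoeff b)⁻¹ * (p - b * Δ) +
            (C (constantCoeff b)⁻¹ * b - 1) * Δ by ring]
          exact add_mem (Ideal.mul_mem_left _ _ hb) (hΔm _ h1)
        · push Not at hall
          obtain ⟨x, hx, hxp⟩ := hall
          obtain ⟨b, hb⟩ := ih (x * p) hxp fun y hy => by
            rw [← mul_assoc]
            exact h _ (by rw [pow_succ]; exact Ideal.mul_mem_mul hy hx)
          exact ⟨b * x, by rwa [mul_assoc]⟩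
    exact fun p hp => hmain N p hp fun x hx => Ideal.mul_mem_right _ _ (hN' hx)
  have hfix : ∀ (g : G) (i : Fin n), g • f i = f i := fun g i => smul_algebraMap' g _
  have hinvΔ : ∀ g : G, g • Δ - Δ ∈ Ideal.span (Set.range f) := by
    intro g
    let φ : MvPolynomial (Fin n) k →+* MvPolynomial (Fin n) k := MulSemiringAction.toRingHom G _ g
    let R : Matrix (Fin n) (Fin n) (MvPolynomial (Fin n) k) := ((M g).map C).transpose
    have h' : ∀ i, f i = ∑ j, (cM.map φ * R) i j * X j := by
      intro i
      conv_lhs => rw [← hfix g i, hcM i, Finset.smul_sum]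
      simp only [smul_mul', hM.2 g, Finset.mul_sum, smul_eq_C_mul]
      rw [Finset.sum_comm]
      refine Finset.sum_congr rfl fun j _ => ?_
      rw [Matrix.mul_apply, Finset.sum_mul]
      refine Finset.sum_congr rfl fun l _ => ?_
      simp [R, φ, mul_assoc]
    have h := det_sub_det_mem hX (cM.map φ * R) cM h' hcM
    have hR : R.det = 1 := by
      show ((M g).map C).transpose.det = 1
      rw [Matrix.det_transpose, ← RingHom.mapMatrix_apply, ← RingHom.map_det, hdet, map_one]
    have hd : (cM.map φ * R).det = g • Δ := by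
      rw [Matrix.det_mul, hR, mul_one, ← RingHom.mapMatrix_apply, ← RingHom.map_det]
      rfl
    rwa [hd] at h
  have hΔne : Δ ∉ Ideal.span (Set.range f) := by
    intro h
    have hall : ∀ p, p ∈ Ideal.span (Set.range f) := fun p => by
      by_contra hp
      have hex : ∃ (e : ℕ), ∀ x ∈ mS k n ^ e, x * p ∈ Ideal.span (Set.range f) :=
        ⟨N, fun x hx => Ideal.mul_mem_right _ _ (hN' hx)⟩
      rcases h0 : Nat.find hex with _ | e
      · have h1 := Nat.find_spec hex
        rw [h0] at h1
        exact hp (by simpa using h1 1 (by simp))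
      · have hne := Nat.find_min hex (m := e) (by omega)
        push Not at hne
        obtain ⟨y, hy, hyp⟩ := hne
        obtain ⟨b, hb⟩ := hcolon (y * p) fun x hx => by
          rw [← mul_assoc]
          exact (h0 ▸ Nat.find_spec hex) _ (by rw [pow_succ']; exact Ideal.mul_mem_mul hx hy)
        exact hyp (by rw [show y * p = (y * p - b * Δ) + b * Δ by ring]; exact add_mem hb (Ideal.mul_mem_left _ _ h))
    have h1 : (1 : MvPolynomial (Fin n) k) ∈ mS k n := by
      have hle : Ideal.span (Set.range f) ≤ mS k n := by rw [mS_eq_span]; exact Ideal.span_le.2 (by rintro _ ⟨i, rfl⟩; exact hfm i)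
      exact hle (hall 1)
    exact one_ne_zero (h1.symm.trans (map_one _)).symm
  set u := π Δ with hu
  have huΔ : algebraMap A _ u - Δ ∈ Ideal.span (Set.range f) := (hπ' Δ).2 _ hinvΔ
  refine gorenstein_atPrime_of_socle _ rs (isWeaklyRegular_invariants hπ hreg)
    (Ideal.span_le.2 fun a ha => hpos a ha) (N := N) (fun a ha => mem_of_map_mem hπ ?_) u ?_ (fun x hx => ?_) fun a ha => ?_
  · rw [← hKS]
    exact hN' ((Ideal.map_pow (algebraMap A (MvPolynomial (Fin n) k)) _ N ▸ Ideal.mem_map_of_mem _ ha : _ ∈ (mA (k := k) (n := n) A).map _ ^ N) |>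
      Ideal.pow_right_mono Ideal.map_comap_le N)
  · intro h
    exact hΔne (by
      rw [show Δ = algebraMap A _ u - (algebraMap A _ u - Δ) by ring]
      exact sub_mem (hKS ▸ Ideal.mem_map_of_mem _ h) huΔ)
  · refine mem_of_map_mem hπ ?_
    rw [← hKS, map_mul, show algebraMap A _ x * algebraMap A _ u = algebraMap A (MvPolynomial (Fin n) k) x * (algebraMap A _ u - Δ) + algebraMap A _ x * Δ by ring]
    exact add_mem (Ideal.mul_mem_left _ _ huΔ) (hΔm _ hx)
  · by_cases haK : a ∈ KA
    · exact ⟨0, by rwa [zero_mul, sub_zero]⟩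
    obtain ⟨b, hb⟩ := hsocS (algebraMap A _ a) fun h => haK (mem_of_map_mem hπ (hKS ▸ h))
    -- averaging the multiplier
    have hbinv : ∀ g : G, g • (b * algebraMap A (MvPolynomial (Fin n) k) a) - b * algebraMap A (MvPolynomial (Fin n) k) a ∈
        Ideal.span (Set.range f) := fun g => by
      have hg : g • (b * algebraMap A (MvPolynomial (Fin n) k) a - Δ) ∈ Ideal.span (Set.range f) := by
        have := Ideal.mem_map_of_mem (MulSemiringAction.toRingHom G (MvPolynomial (Fin n) k) g) hb
        rw [Ideal.map_span, ← Set.range_comp] at this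
        have hfg : (MulSemiringAction.toRingHom G (MvPolynomial (Fin n) k) g) ∘ f = f := funext (hfix g)
        rw [hfg] at this
        exact this
      rw [smul_sub] at hg
      have e : g • (b * algebraMap A (MvPolynomial (Fin n) k) a) - b * algebraMap A (MvPolynomial (Fin n) k) a =
          (g • (b * algebraMap A (MvPolynomial (Fin n) k) a) - g • Δ) + (g • Δ - Δ) -
            (b * algebraMap A (MvPolynomial (Fin n) k) a - Δ) := by ring
      rw [e]
      exact sub_mem (add_mem hg (hinvΔ g)) hb
    have h1 := (hπ' _).2 _ hbinv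
    rw [mul_comm b, ← Algebra.smul_def, map_smul, smul_eq_mul, map_mul, Algebra.smul_def] at h1
    set c := constantCoeff b with hcdef
    have hcπ : constantCoeff (algebraMap A (MvPolynomial (Fin n) k) (π b)) = c := (hπ' b).1
    obtain ⟨cA, hcA⟩ := Algebra.IsInvariant.isInvariant (A := A) (G := G) (C c : MvPolynomial (Fin n) k) fun g => hM.1 g c
    have hlow : a * (π b - cA) ∈ KA := by
      rw [mul_comm]
      refine ha _ ?_
      show constantCoeff (algebraMap A (MvPolynomial (Fin n) k) (π b - cA)) = 0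
      rw [map_sub, map_sub, hcπ, hcA, constantCoeff_C, sub_self]
    have hmain : a * π b - u ∈ KA := by
      refine mem_of_map_mem hπ ?_
      rw [← hKS, map_sub, map_mul]
      have e : algebraMap A (MvPolynomial (Fin n) k) a * algebraMap A _ (π b) - algebraMap A _ u =
          (algebraMap A (MvPolynomial (Fin n) k) a * algebraMap A _ (π b) - algebraMap A _ a * b) +
            (b * algebraMap A _ a - Δ) - (algebraMap A _ u - Δ) := by ring
      rw [e]
      exact sub_mem (add_mem h1 hb) huΔ
    have hau : cA * a - u ∈ KA := by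
      rw [show cA * a - u = (a * π b - u) - a * (π b - cA) by ring]
      exact sub_mem hmain hlow
    by_cases hc0 : c = 0
    · have : algebraMap A (MvPolynomial (Fin n) k) cA = 0 := by rw [hcA, hc0, map_zero]
      rw [(map_eq_zero_iff _ (FaithfulSMul.algebraMap_injective A _)).1 this, zero_mul, zero_sub] at hau
      exact absurd (by
        rw [show Δ = algebraMap A (MvPolynomial (Fin n) k) u - (algebraMap A _ u - Δ) by ring]
        exact sub_mem (hKS ▸ Ideal.mem_map_of_mem _ (neg_mem_iff.1 hau)) huΔ) hΔne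
    · obtain ⟨d, hd⟩ := Algebra.IsInvariant.isInvariant (A := A) (G := G) (C c⁻¹ : MvPolynomial (Fin n) k) fun g => hM.1 g _
      have hdc : d * cA = 1 := FaithfulSMul.algebraMap_injective A (MvPolynomial (Fin n) k) (by
        rw [map_mul, hd, hcA, ← map_mul, inv_mul_cancel₀ hc0, map_one, map_one])
      refine ⟨d, ?_⟩
      rw [show a - d * u = d * (cA * a - u) - (d * cA - 1) * a by ring, hdc, sub_self, zero_mul, sub_zero]
      exact KA.mul_mem_left _ hau

end Groth.Agent.Watanabe
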